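import Cfsg.Agent.Lib.Comp.J4e.W1
import Cfsg.Agent.Lib.Comp.J4e.T2
import Cfsg.Agent.Lib.Comp.J4e.T1
import Cfsg.Agent.Lib.Comp.J4.Base

set_option maxRecDepth 100000
set_option Elab.async false

namespace Cfsg.Lib.Comp.J4e

universe u

theorem t2_ord : Ord.{u} iv T2_R [1,5,6,7] 64512 := (T2_idx.ord_step d_ord).of_cons (cons_of_subset (by decide +kernel))

theorem t1_ord : Ord.{u} iv R [1,2,3] 244823040 :=
  (T1_idx.ord_step t2_ord).of_cons (c5.trans (cons_of_subset (by decide +kernel)))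

noncomputable def w6_h : ℕ := (nat_lit 0x300000200000300010000010000020002000000000001)

noncomputable def w6_c : List ℕ := [(nat_lit 0x3)]

theorem w6_b : goalB 1 (fun _ p => p) J4.iv (allCodes J4.iv J4.RN) (fun t => look w6_h 64 t, w6_c) 0 [([3,1,2,3,1,2],6,(nat_lit 0x100000500000900000b000007000003))] (msk []) = true := by decide +kernel

theorem w6 : Mem.{u} J4.iv J4.RN ([].map fun x => [x]) [[3,1,2,3,1,2]] := mem_of_goalB w6_b

theorem n_ord : Ord.{u} J4.iv J4.RN J4.LN 244823040 :=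
  (Ord.sub (V := [[],
 [1],
 [2],
 [3],
 [4],
 [3,1,2],
 [2,1,2,1,3,1,2,1,2,1,3,1,3],
 [2,1,2,1,3,1,3,1,2,1,3,1,3]]) (R := J4.RN ++ [([3,1,2],1)]) t1_ord (by decide +kernel) (by decide +kernel)).of_cons
    (Mem.consF w6 (by decide +kernel))

end Cfsg.Lib.Comp.J4e
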