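import Cfsg.Agent.Lib.Comp.J4e.Base

set_option maxRecDepth 100000
set_option Elab.async false

namespace Cfsg.Lib.Comp.J4e

universe u

noncomputable def nets_1 : Net :=
 (Net.cons 12 (nat_lit 0x348)
 (Net.cons 6 (nat_lit 0x10026)
 (Net.cons 3 (nat_lit 0x4104)
 (Net.cons 1 (nat_lit 0x240048)
 (Net.cons 1 (nat_lit 0x402492)
 (Net.cons 1 (nat_lit 0x200048)
 (Net.cons 3 (nat_lit 0x70c1)
 (Net.cons 6 (nat_lit 0x3c021)
 (Net.cons 12 (nat_lit 0xd73)
 Net.nil)))))))))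

noncomputable def nets_2 : Net :=
 (Net.cons 12 (nat_lit 0x990)
 (Net.cons 6 (nat_lit 0x3c014)
 (Net.cons 3 (nat_lit 0x6080)
 (Net.cons 1 (nat_lit 0x201)
 (Net.cons 1 (nat_lit 0x482012)
 (Net.cons 1 (nat_lit 0x201000)
 (Net.cons 3 (nat_lit 0x186000)
 (Net.cons 6 (nat_lit 0x38034)
 (Net.cons 12 (nat_lit 0x590)
 Net.nil)))))))))

noncomputable def nets_5 : Net :=
 (Net.cons 12 (nat_lit 0xb44)
 (Net.cons 6 (nat_lit 0x2a010)
 (Net.cons 3 (nat_lit 0x184000)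
 (Net.cons 1 (nat_lit 0x200009)
 (Net.cons 1 (nat_lit 0x402492)
 (Net.cons 1 (nat_lit 0x1240)
 (Net.cons 3 (nat_lit 0xc1146)
 (Net.cons 6 (nat_lit 0x1502f)
 (Net.cons 12 (nat_lit 0xb44)
 Net.nil)))))))))

noncomputable def nets_6 : Net :=
 (Net.cons 12 (nat_lit 0x6ec)
 (Net.cons 6 (nat_lit 0x1c004)
 (Net.cons 3 (nat_lit 0x182002)
 (Net.cons 1 (nat_lit 0x1048)
 (Net.cons 1 (nat_lit 0x92080)
 (Net.cons 1 (nat_lit 0x48040)
 (Net.cons 3 (nat_lit 0x1c4000)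
 (Net.cons 6 (nat_lit 0x7000)
 (Net.cons 12 (nat_lit 0x2ec)
 Net.nil)))))))))

noncomputable def nets : List Net := [Net.nil,
 nets_1,
 nets_2,
 Net.rev nets_2,
 Net.nil,
 nets_5,
 nets_6,
 Net.rev nets_6]

theorem nets_ok : NetsOK 24 nets := netsOK_of (by decide +kernel)

theorem nets_rel : Rels (gp nets) R := rels_of_relsB (k := 5) nets_ok (by norm_num) (by decide +kernel)

theorem nets_iv : IvOK (gp nets) iv := ivOK_of_ivB (k := 5) nets_ok (by norm_num) (by decide +kernel)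

noncomputable def slp : List (ℕ × List ℕ) := []

theorem slp_ok : slpB 24 5 nets slp L = true := by decide +kernel

theorem mem_all {x : ℕ} (h : x ∈ L ++ slp.map (·.1)) : gp nets x ∈ cl (gp nets) L :=
  cl_eq_of_slpB nets_ok (by norm_num) slp_ok ▸ mem_cl h

theorem lb : 24 ≤ Nat.card (cl (gp nets) L) := by
  rw [← cl_eq_of_slpB nets_ok (by norm_num) slp_ok]
  exact lb_of_chainB nets_ok (C := [([],[1,5,1,5,1,5,1,5,1,5,1,5],0,0,24)]) (by decide +kernel)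

end Cfsg.Lib.Comp.J4e
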