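import Cfsg.Agent.Lib.Comp.J4e.Base

set_option maxRecDepth 100000
set_option Elab.async false

namespace Cfsg.Lib.Comp.J4e

universe u

noncomputable def TD_R : List (List ℕ × ℕ) := [([1],1),
 ([5],1),
 ([1,5],11)]

noncomputable def TD_n_1 : Net :=
 (Net.cons 12 (nat_lit 0xc00)
 (Net.cons 6 (nat_lit 0xc000)
 (Net.cons 3 (nat_lit 0x106)
 (Net.cons 1 (nat_lit 0x240048)
 (Net.cons 1 (nat_lit 0x492492)
 (Net.cons 1 (nat_lit 0x9201)
 (Net.cons 3 (nat_lit 0xc60c1)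
 (Net.cons 6 (nat_lit 0x33000)
 (Net.cons 12 (nat_lit 0xc00)
 Net.nil)))))))))

noncomputable def TD_n_5 : Net :=
 (Net.cons 6 (nat_lit 0xc00c)
 (Net.cons 1 (nat_lit 0x9009)
 (Net.cons 1 (nat_lit 0x492492)
 (Net.cons 1 (nat_lit 0x240240)
 (Net.cons 3 (nat_lit 0x183183)
 (Net.cons 6 (nat_lit 0x33033)
 Net.nil))))))

noncomputable def TD_n : List Net := [Net.nil,
 TD_n_1,
 Net.nil,
 Net.nil,
 Net.nil,
 TD_n_5]

theorem TD_n_ok : NetsOK 24 TD_n := netsOK_of (by decide +kernel)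

theorem TD_n_rel : Rels (gp TD_n) TD_R := rels_of_relsB (k := 5) TD_n_ok (by norm_num) (by decide +kernel)

theorem TD_fin : finB 24 TD_n [1,5] 24 (runH 24 TD_n (fun x p => ptInv (nth Net.nil TD_n x) p) iv TD_R [] ([].map fun x => [x]) 0 []
  [0,4,8]
  (defsH 24 TD_n (ones 192) [1,5,1,5,1,5,1,5,1,5,1,5] (Nat.shiftLeft 1 0) 0)) = true := by decide +kernel

theorem TD_idx : Idx.{u} iv (TD_R ++ []) ([].map fun x => [x]) [1,5] 24 :=
  Reach.idx TD_n_ok (reach_runH TD_n_ok (fun x p _ => ptInv_gp TD_n_ok x p) TD_n_rel (reach_defsH TD_n_ok _ _ _ _ _ _) _ _) TD_fin (by norm_num)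

end Cfsg.Lib.Comp.J4e
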